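import Groth.Agent.IndEtLib.Localization
import Groth.Prelude.Def_Curves
import Mathlib.RingTheory.ZariskisMainTheorem
import Mathlib.RingTheory.Flat.Basic
import Mathlib.RingTheory.Ideal.GoingDown
import Mathlib.RingTheory.IntegralClosure.IntegrallyClosed
import Mathlib.AlgebraicGeometry.Pullbacks
import Mathlib.AlgebraicGeometry.PullbackCarrier
import Mathlib.RingTheory.Polynomial.ScaleRoots

/-!
# Flat quasi-finite algebras over absolutely integrally closed local domains have sections
-/

set_option autoImplicit false
set_option linter.style.haveILetI false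
universe u

open TensorProduct Polynomial CategoryTheory CategoryTheory.Limits AlgebraicGeometry

namespace Groth.Agent.AICCover

variable {O : Type u} [CommRing O] [IsDomain O]

/-- Over an absolutely integrally closed domain monic polynomials split. -/
theorem splits_of_isAIC (h : Curves.IsAIC O) : ∀ (n : ℕ) (f : O[X]), f.Monic → f.natDegree = n →
    ∃ s : Multiset O, f = (s.map fun a => X - C a).prod := by
  intro n
  induction n with
  | zero =>
    intro f hf hd
    exact ⟨0, by simpa using hf.natDegree_eq_zero.1 hd⟩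
  | succ n ih =>
    intro f hf hd
    obtain ⟨r, hr⟩ := h f hf (by omega)
    obtain ⟨g, rfl⟩ := dvd_iff_isRoot.2 hr
    have hg : g.Monic := (monic_X_sub_C r).of_mul_monic_left hf
    rw [(monic_X_sub_C r).natDegree_mul hg, natDegree_X_sub_C] at hd
    obtain ⟨s, hs⟩ := ih g hg (by omega)
    exact ⟨r ::ₘ s, by rw [Multiset.map_cons, Multiset.prod_cons, ← hs]⟩

/-- An element of a domain over an absolutely integrally closed domain, integral over it, comes
from it. -/
theorem mem_range_of_isIntegral (h : Curves.IsAIC O) {D : Type u} [CommRing D] [IsDomain D]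
    [Algebra O D] {x : D} (hx : IsIntegral O x) : x ∈ Set.range (algebraMap O D) := by
  obtain ⟨f, hf, hfx⟩ := hx
  obtain ⟨s, rfl⟩ := splits_of_isAIC h _ f hf rfl
  rw [← aeval_def] at hfx
  rw [map_multiset_prod, Multiset.prod_eq_zero_iff, Multiset.map_map, Multiset.mem_map] at hfx
  obtain ⟨a, -, ha⟩ := hfx
  exact ⟨a, (sub_eq_zero.1 (by simpa using ha)).symm⟩

/-- A flat quasi-finite algebra of finite type over an absolutely integrally closed local domain,
with a point over the closed point, has a section. -/
theorem exists_retraction [IsLocalRing O] (h : Curves.IsAIC O) (D : Type u) [CommRing D] [Algebra O D]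
    [Module.Flat O D] [Algebra.FiniteType O D] [Algebra.QuasiFinite O D] (q : Ideal D) [q.IsPrime]
    (hq : q.comap (algebraMap O D) = IsLocalRing.maximalIdeal O) :
    Nonempty (D →ₐ[O] O) := by
  haveI : q.LiesOver (IsLocalRing.maximalIdeal O) := ⟨hq.symm⟩
  obtain ⟨q₀, hle, hq₀, hover⟩ := Ideal.exists_ideal_le_liesOver_of_le q
    (p := (⊥ : Ideal O)) (bot_le (a := IsLocalRing.maximalIdeal O))
  haveI := hq₀
  let D₀ := D ⧸ q₀
  let q' : Ideal D₀ := q.map (Ideal.Quotient.mk q₀)
  haveI : q'.IsPrime := Ideal.map_isPrime_of_surjective Ideal.Quotient.mk_surjective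
    (by rwa [Ideal.mk_ker])
  have hq' : q'.comap (Ideal.Quotient.mk q₀) = q := by
    rw [Ideal.comap_map_of_surjective' _ Ideal.Quotient.mk_surjective, Ideal.mk_ker, sup_eq_left]
    exact hle
  have hinj : Function.Injective (algebraMap O D₀) := by
    rw [RingHom.injective_iff_ker_eq_bot, eq_bot_iff]
    intro a ha
    have : algebraMap O D a ∈ q₀ := Ideal.Quotient.eq_zero_iff_mem.1 ha
    exact hover.over ▸ this
  obtain ⟨r, hr, hrint, hm⟩ := Algebra.zariskisMainProperty_iff.1
    (Algebra.ZariskisMainProperty.of_finiteType (R := O) q')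
  obtain ⟨a, rfl⟩ := mem_range_of_isIntegral h hrint
  have ha : IsUnit a := by
    by_contra hna
    have : algebraMap O D a ∈ q := by
      have : a ∈ q.comap (algebraMap O D) := hq ▸ hna
      exact this
    rw [← hq'] at this
    exact hr this
  have hsurj : Function.Surjective (algebraMap O D₀) := fun x => by
    obtain ⟨m, hm⟩ := hm x
    obtain ⟨c, hc⟩ := mem_range_of_isIntegral h hm
    refine ⟨↑(ha.pow m).unit⁻¹ * c, ?_⟩
    rw [map_mul, hc, ← mul_assoc, ← map_pow, ← map_mul, IsUnit.val_inv_mul, map_one, one_mul]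
  exact ⟨(AlgEquiv.ofBijective (Algebra.ofId O D₀) ⟨hinj, hsurj⟩).symm.toAlgHom.comp
    (Ideal.Quotient.mkₐ O q₀)⟩

/-- A flat quasi-finite algebra of finite presentation over `A` has, near a point `P` of an
`A`-algebra whose local ring is an absolutely integrally closed domain, a section. -/
theorem exists_section_near (A B C : Type u) [CommRing A] [CommRing B] [CommRing C] [Algebra A B]
    [Algebra A C] [Module.Flat A C] [Algebra.FinitePresentation A C] [Algebra.QuasiFinite A C]
    (P : Ideal B) [P.IsPrime] [IsDomain (Localization.AtPrime P)]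
    (h : Curves.IsAIC (Localization.AtPrime P)) (Q : Ideal C) [Q.IsPrime]
    (hPQ : P.comap (algebraMap A B) = Q.comap (algebraMap A C)) :
    ∃ b ∉ P, Nonempty (C →ₐ[A] Localization.Away b) := by
  let O := Localization.AtPrime P
  -- a point of `O ⊗ C` over the closed point
  obtain ⟨z, hz⟩ : ∃ z : PrimeSpectrum (O ⊗[A] C),
      z.asIdeal.comap (algebraMap O (O ⊗[A] C)) = IsLocalRing.maximalIdeal O := by
    let x : Spec (CommRingCat.of O) := IsLocalRing.closedPoint O
    let y : Spec (CommRingCat.of C) := ⟨Q, inferInstance⟩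
    obtain ⟨w, hw, -⟩ := Scheme.Pullback.exists_preimage_pullback
      (f := Spec.map (CommRingCat.ofHom (algebraMap A O)))
      (g := Spec.map (CommRingCat.ofHom (algebraMap A C))) x y (PrimeSpectrum.ext (by
        show (IsLocalRing.maximalIdeal O).comap (algebraMap A O) = Q.comap (algebraMap A C)
        rw [IsScalarTower.algebraMap_eq A B O, ← Ideal.comap_comap, show (IsLocalRing.maximalIdeal O).comap (algebraMap B O) = P from
          IsLocalization.AtPrime.under_maximalIdeal O P]
        exact hPQ))
    refine ⟨(pullbackSpecIso A O C).hom w, ?_⟩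
    have e := congr(($(pullbackSpecIso_inv_fst A O C)) ((pullbackSpecIso A O C).hom w))
    rw [Scheme.Hom.comp_apply, ← Scheme.Hom.comp_apply (pullbackSpecIso A O C).hom, Iso.hom_inv_id,
      show (𝟙 (pullback (Spec.map (CommRingCat.ofHom (algebraMap A O)))
        (Spec.map (CommRingCat.ofHom (algebraMap A C))))) w = w from rfl, hw] at e
    exact (congrArg PrimeSpectrum.asIdeal e).symm
  obtain ⟨σ⟩ := exists_retraction h (O ⊗[A] C) z.asIdeal hz
  let φ : C →ₐ[A] O := (σ.restrictScalars A).comp Algebra.TensorProduct.includeRight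
  -- spread it out
  let φB : B ⊗[A] C →ₐ[B] O :=
    Algebra.TensorProduct.lift (Algebra.ofId B O) φ fun _ _ => Commute.all _ _
  obtain ⟨m, ψ, -⟩ := IndEtLib.exists_lift_away P.primeCompl O (B ⊗[A] C) φB
  exact ⟨m.el, Subtype.prop m, ⟨(ψ.restrictScalars A).comp Algebra.TensorProduct.includeRight⟩⟩

end Groth.Agent.AICCover
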