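import Groth.Agent.AICCover.Ring
import Groth.Agent.ModPairLocal.AIC
import Groth.Agent.FlatMisc.QfSlice
import Mathlib.AlgebraicGeometry.Normalization
import Mathlib.FieldTheory.IsAlgClosed.AlgebraicClosure

/-!
# The canonical absolutely integrally closed cover of a scheme

Over an affine open `U` it is the spectrum of the integral closure of `Γ(X, U)` in the product of
the algebraic closures of the residue fields of the points of `U`.
-/

set_option autoImplicit false
set_option linter.style.haveILetI false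
set_option backward.isDefEq.respectTransparency false
set_option backward.isDefEq.respectTransparency.types false
universe u

open CategoryTheory CategoryTheory.Limits AlgebraicGeometry TopologicalSpace Opposite Polynomial
open AlgebraicGeometry.Scheme AlgebraicGeometry.Scheme.AffineZariskiSite

namespace Groth.Agent.AICCover

variable (X : Scheme.{u})

/-- The product of the algebraic closures of the residue fields of the points of an open. -/
abbrev PR (U : X.Opens) : Type u :=
  ∀ x : (U : Set X), AlgebraicClosure (X.residueField (x : X))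

/-- Evaluation of sections at all points. -/
noncomputable def evalAll (U : X.Opens) : Γ(X, U) →+* PR X U :=
  RingHom.pi fun x => (algebraMap (X.residueField (x : X)) _).comp (X.evaluation U x.1 x.2).hom

noncomputable instance algPR (U : X.Opens) : Algebra Γ(X, U) (PR X U) := (evalAll X U).toAlgebra

/-- The integral closure of the sections. -/
noncomputable abbrev cl (U : X.Opens) : Subalgebra Γ(X, U) (PR X U) :=
  integralClosure Γ(X, U) (PR X U)

/-- Restriction of products. -/
noncomputable def resPR {U V : X.Opens} (h : U ≤ V) : PR X V →+* PR X U where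
  toFun y x := y ⟨x.1, h x.2⟩
  map_one' := rfl
  map_mul' _ _ := rfl
  map_zero' := rfl
  map_add' _ _ := rfl

/-- The projection of a product to a point. -/
noncomputable abbrev projPt (U : X.Opens) (x : (U : Set X)) :
    PR X U →+* AlgebraicClosure (X.residueField (x : X)) :=
  Pi.evalRingHom (fun y : (U : Set X) => AlgebraicClosure (X.residueField (y : X))) x

lemma resPR_evalAll {U V : X.Opens} (h : U ≤ V) (a : Γ(X, V)) :
    resPR X h (evalAll X V a) = evalAll X U (X.presheaf.map (homOfLE h).op a) := by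
  funext x
  show algebraMap _ _ (X.evaluation V x.1 (h x.2) a) =
    algebraMap _ _ (X.evaluation U x.1 x.2 (X.presheaf.map (homOfLE h).op a))
  congr 1
  show (X.presheaf.germ V x.1 (h x.2) ≫ X.residue x.1) a =
    (X.presheaf.map (homOfLE h).op ≫ X.presheaf.germ U x.1 x.2 ≫ X.residue x.1) a
  rw [← Category.assoc, X.presheaf.germ_res]

lemma resPR_mem {U V : X.Opens} (h : U ≤ V) {y : PR X V} (hy : y ∈ cl X V) :
    resPR X h y ∈ cl X U := by
  obtain ⟨p, hp, hpy⟩ := hy
  refine ⟨p.map (X.presheaf.map (homOfLE h).op).hom, hp.map _, ?_⟩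
  have e : (evalAll X U).comp (X.presheaf.map (homOfLE h).op).hom = (resPR X h).comp (evalAll X V) :=
    RingHom.ext fun a => (resPR_evalAll X h a).symm
  rw [eval₂_map]
  show eval₂ ((evalAll X U).comp _) _ p = 0
  rw [e, ← hom_eval₂]
  exact (congrArg (resPR X h) hpy).trans (map_zero _)

/-- The presheaf of integral closures. -/
noncomputable def diagram : X.Opensᵒᵖ ⥤ CommRingCat.{u} where
  obj U := .of (cl X U.unop)
  map {V U} i := CommRingCat.ofHom
    ((resPR X i.unop.le).restrict (cl X V.unop) (cl X U.unop) fun _ hy => resPR_mem X i.unop.le hy)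
  map_id _ := rfl
  map_comp _ _ := rfl

/-- The structure map of the presheaf of integral closures. -/
noncomputable def diagramMap : X.presheaf ⟶ diagram X where
  app U := CommRingCat.ofHom (algebraMap Γ(X, U.unop) (cl X U.unop))
  naturality {U V} i := by
    ext a
    exact Subtype.ext (resPR_evalAll X i.unop.le a).symm

lemma coequifibered : ((toOpensFunctor X).op.whiskerLeft (diagramMap X)).Coequifibered := by
  refine coequifibered_iff_forall_isLocalizationAway.mpr fun U r => ?_
  let W := X.basicOpen r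
  have hW : W ≤ U.1 := X.basicOpen_le r
  let res : cl X U.1 →+* cl X W :=
    (resPR X hW).restrict (cl X U.1) (cl X W) fun _ hy => resPR_mem X hW hy
  letI := res.toAlgebra
  change IsLocalization.Away (algebraMap Γ(X, U.1) (cl X U.1) r) (cl X W)
  have hres : ∀ a : Γ(X, U.1), res (algebraMap Γ(X, U.1) (cl X U.1) a) =
      algebraMap Γ(X, W) (cl X W) (X.presheaf.map (homOfLE hW).op a) :=
    fun a => Subtype.ext (resPR_evalAll X hW a)
  have hout : ∀ x : (U.1 : Set X), x.1 ∉ W → evalAll X U.1 r x = 0 := fun x hx => by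
    show algebraMap _ _ (X.evaluation U.1 x.1 x.2 r) = 0
    rw [(evaluation_eq_zero_iff_notMem_basicOpen X x.1 x.2 r).2 hx, map_zero]
  haveI : IsLocalization.Away r Γ(X, W) := U.2.isLocalization_basicOpen r
  refine IsLocalization.Away.mk _ ?_ (fun z => ?_) fun a b hab => ⟨1, ?_⟩
  · show IsUnit (res _)
    rw [hres]
    exact (IsLocalization.Away.algebraMap_isUnit (S := Γ(X, W)) r).map _
  · classical
    letI : Algebra Γ(X, U.1) (PR X W) :=
      ((evalAll X W).comp (X.presheaf.map (homOfLE hW).op).hom).toAlgebra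
    haveI : IsScalarTower Γ(X, U.1) Γ(X, W) (PR X W) := .of_algebraMap_eq' rfl
    obtain ⟨⟨_, n, rfl⟩, hint⟩ := IsIntegral.exists_multiple_integral_of_isLocalization
      (Submonoid.powers r) (z : PR X W) z.2
    obtain ⟨p, hp, hpz⟩ := hint
    set y : PR X W := (r ^ n : Γ(X, U.1)) • (z : PR X W) with hy
    let y₀ : PR X U.1 := fun x => if hx : x.1 ∈ W then y ⟨x.1, hx⟩ else 0
    have hy₀ : y₀ ∈ cl X U.1 := by
      refine ⟨p * Polynomial.X, hp.mul monic_X, ?_⟩
      funext x
      show projPt X U.1 x (eval₂ (evalAll X U.1) y₀ (p * Polynomial.X)) = 0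
      rw [hom_eval₂, eval₂_mul, eval₂_X]
      by_cases hx : x.1 ∈ W
      · have h0 := congrArg (projPt X W ⟨x.1, hx⟩) hpz
        rw [hom_eval₂, map_zero] at h0
        have e1 : ((projPt X W ⟨x.1, hx⟩).comp (algebraMap Γ(X, U.1) (PR X W))) =
            (projPt X U.1 x).comp (evalAll X U.1) :=
          RingHom.ext fun a => (congrFun (resPR_evalAll X hW a) ⟨x.1, hx⟩).symm
        rw [e1] at h0
        rw [show projPt X U.1 x y₀ = y ⟨x.1, hx⟩ from dif_pos hx]
        exact mul_eq_zero_of_left h0 _
      · rw [show projPt X U.1 x y₀ = 0 from dif_neg hx]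
        exact mul_zero _
    refine ⟨n, ⟨y₀, hy₀⟩, Subtype.ext (funext fun x => ?_)⟩
    show z.1 x * (res (algebraMap Γ(X, U.1) (cl X U.1) r) ^ n : cl X W).1 x = y₀ ⟨x.1, hW x.2⟩
    rw [hres, show y₀ ⟨x.1, hW x.2⟩ = y x from dif_pos x.2, hy, Algebra.smul_def, Pi.mul_apply,
      mul_comm, map_pow]
    exact congrArg (fun v : PR X W => v x * z.1 x) (map_pow (cl X W).val _ n)
  · rw [pow_one]
    refine Subtype.ext (funext fun x => ?_)
    show evalAll X U.1 r x * a.1 x = evalAll X U.1 r x * b.1 x
    by_cases hx : x.1 ∈ W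
    · rw [show a.1 x = b.1 x from congrFun (congrArg Subtype.val hab) ⟨x.1, hx⟩]
    · rw [hout x hx, zero_mul, zero_mul]

/-- The absolutely integrally closed cover. -/
noncomputable def glueData := relativeGluingData (coequifibered X)

instance : ((glueData X).functor ⋙ Scheme.forget).IsLocallyDirected :=
  Cover.RelativeGluingData.instIsLocallyDirectedI₀CompFunctorForgetOfIsThin ..

/-- The total space. -/
noncomputable def total : Scheme.{u} := (glueData X).glued

/-- The projection. -/
noncomputable def proj : total X ⟶ X := (glueData X).toBase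

lemma cover_proj (U : X.affineOpens) :
    (glueData X).cover.f U ≫ proj X =
      Spec.map (CommRingCat.ofHom (algebraMap Γ(X, U.1) (cl X U.1))) ≫ U.2.fromSpec :=
  colimit.ι_desc _ _

instance : IsIntegralHom (proj X) := by
  rw [IsZariskiLocalAtTarget.iff_of_iSup_eq_top (P := @IsIntegralHom) _
    (iSup_affineOpens_eq_top X)]
  intro U
  let e := IsOpenImmersion.isoOfRangeEq (proj X ⁻¹ᵁ U).ι ((glueData X).cover.f U)
    (by unfold proj total; simpa using! congr($((glueData X).toBase_preimage_eq_opensRange_ι U).1))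
  rw [← MorphismProperty.cancel_left_of_respectsIso @IsIntegralHom e.inv,
    ← MorphismProperty.cancel_right_of_respectsIso @IsIntegralHom _ U.2.isoSpec.hom,
    Category.assoc]
  have : e.inv ≫ (proj X ∣_ U.1) ≫ U.2.isoSpec.hom =
      Spec.map (CommRingCat.ofHom (algebraMap Γ(X, U.1) (cl X U.1))) := by
    rw [← cancel_mono U.2.fromSpec]
    simp only [Category.assoc, IsAffineOpen.isoSpec_hom, IsAffineOpen.toSpecΓ_fromSpec,
      morphismRestrict_ι]
    rw [IsOpenImmersion.isoOfRangeEq_inv_fac_assoc]
    exact cover_proj X U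
  rw [this, IsIntegralHom.SpecMap_iff]
  exact algebraMap_isIntegral_iff.2 inferInstance

instance : Surjective (proj X) := by
  refine ⟨fun x => ?_⟩
  obtain ⟨U, hU, hxU, -⟩ := exists_isAffineOpen_mem_and_subset (x := x) (U := ⊤) trivial
  let ev : cl X U →+* AlgebraicClosure (X.residueField x) :=
    (projPt X U ⟨x, hxU⟩).comp (cl X U).val.toRingHom
  let P : PrimeSpectrum (cl X U) := ⟨RingHom.ker ev, RingHom.ker_isPrime ev⟩
  refine ⟨(glueData X).cover.f ⟨U, hU⟩ P, ?_⟩
  refine ((Scheme.Hom.comp_apply _ _ _).symm.trans (congr(($(cover_proj X ⟨U, hU⟩)) P))).trans ?_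
  refine (Scheme.Hom.comp_apply _ _ _).trans ?_
  set q := Spec.map (CommRingCat.ofHom (algebraMap Γ(X, U) (cl X U))) P with hq
  have hy : hU.fromSpec q ∈ U := by
    rw [← SetLike.mem_coe, ← hU.range_fromSpec]; exact ⟨q, rfl⟩
  have key : ∀ a : Γ(X, U), hU.fromSpec q ∈ X.basicOpen a ↔ x ∈ X.basicOpen a := fun a => by
    have h1 : hU.fromSpec q ∈ X.basicOpen a ↔ q ∈ hU.fromSpec ⁻¹ᵁ X.basicOpen a := Iff.rfl
    rw [h1, hU.fromSpec_preimage_basicOpen, ← evaluation_ne_zero_iff_mem_basicOpen X x hxU a]
    show ¬ (algebraMap (X.residueField x) (AlgebraicClosure (X.residueField x))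
      (X.evaluation U x hxU a) = 0) ↔ _
    rw [map_eq_zero]
  refine ((inseparable_iff_forall_isOpen.2 fun V hV => ?_).eq)
  constructor
  · intro hv
    obtain ⟨a, ha, hva⟩ := hU.exists_basicOpen_le (V := ⟨V, hV⟩) ⟨_, hv⟩ hy
    exact ha ((key a).1 hva)
  · intro hv
    obtain ⟨a, ha, hva⟩ := hU.exists_basicOpen_le (V := ⟨V, hV⟩) ⟨_, hv⟩ hxU
    exact ha ((key a).2 hva)

/-- All monic polynomials over the integral closures have roots. -/
lemma isAIC_cl (U : X.Opens) : Curves.IsAIC (cl X U) := by
  intro f hf hd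
  let e := (cl X U).val.toRingHom
  have hroot : ∀ x : (U : Set X), ∃ z : AlgebraicClosure (X.residueField (x : X)),
      (f.map ((projPt X U x).comp e)).IsRoot z := fun x => by
    haveI : Nontrivial (cl X U) := RingHom.domain_nontrivial ((projPt X U x).comp e)
    refine IsAlgClosed.exists_root _ ?_
    rw [hf.degree_map]
    exact (natDegree_pos_iff_degree_pos.1 hd).ne'
  choose z hz using hroot
  have h0 : eval₂ e z f = 0 := funext fun x => by
    show projPt X U x (eval₂ e z f) = 0
    rw [hom_eval₂, ← Polynomial.eval_map]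
    exact hz x
  have hint : IsIntegral (cl X U) (z : PR X U) := ⟨f, hf, h0⟩
  refine ⟨⟨z, isIntegral_trans z hint⟩, Subtype.ext ?_⟩
  show e (eval _ f) = 0
  rw [← eval₂_at_apply]
  exact h0

/-- The local rings of the integral closures are domains. -/
lemma isDomain_localization (U : X.Opens) (P : Ideal (cl X U)) [P.IsPrime] :
    IsDomain (Localization.AtPrime P) := by
  classical
  have key : ∀ a b : cl X U, a * b = 0 → ∃ t ∉ P, t * a = 0 ∨ t * b = 0 := by
    intro a b hab
    let e₀ : PR X U := fun x => if a.1 x = 0 then 0 else 1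
    have he : e₀ ∈ cl X U := by
      refine ⟨Polynomial.X * (Polynomial.X - Polynomial.C 1), monic_X.mul (monic_X_sub_C 1), ?_⟩
      rw [eval₂_mul, eval₂_sub, eval₂_X, eval₂_C, map_one]
      funext x
      show e₀ x * (e₀ x - 1) = 0
      simp only [e₀]
      split_ifs <;> simp
    by_cases hP : (⟨e₀, he⟩ : cl X U) ∈ P
    · refine ⟨1 - ⟨e₀, he⟩, fun h => (inferInstance : P.IsPrime).ne_top
        ((Ideal.eq_top_iff_one _).2 (by simpa using P.add_mem h hP)), Or.inl ?_⟩
      refine Subtype.ext (funext fun x => ?_)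
      show (1 - e₀ x) * a.1 x = 0
      simp only [e₀]
      split_ifs with h <;> simp [h]
    · refine ⟨⟨e₀, he⟩, hP, Or.inr (Subtype.ext (funext fun x => ?_))⟩
      show e₀ x * b.1 x = 0
      simp only [e₀]
      split_ifs with h
      · exact zero_mul _
      · rw [one_mul]
        exact (mul_eq_zero.1 (congrFun (congrArg Subtype.val hab) x)).resolve_left h
  haveI : NoZeroDivisors (Localization.AtPrime P) := by
    refine ⟨fun {u v} huv => ?_⟩
    obtain ⟨⟨a, s⟩, rfl⟩ := IsLocalization.mk'_surjective (S := Localization.AtPrime P) P.primeCompl u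
    obtain ⟨⟨b, t⟩, rfl⟩ := IsLocalization.mk'_surjective (S := Localization.AtPrime P) P.primeCompl v
    rw [← IsLocalization.mk'_mul, IsLocalization.mk'_eq_zero_iff] at huv
    obtain ⟨c, hc⟩ := huv
    obtain ⟨d, hd, hd'⟩ := key ((c : cl X U) * a) b (by rw [mul_assoc]; exact hc)
    simp only [IsLocalization.mk'_eq_zero_iff]
    rcases hd' with h | h
    · exact Or.inl ⟨⟨d * c, P.primeCompl.mul_mem hd c.2⟩, by rw [mul_assoc]; exact h⟩
    · exact Or.inr ⟨⟨d, hd⟩, h⟩
  exact NoZeroDivisors.to_isDomain (Localization.AtPrime P)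

variable {X}

/-- An fppf cover has sections locally on the cover. -/
theorem exists_local_lift {X' : Scheme.{u}} (g : X' ⟶ X) [Flat g] [LocallyOfFinitePresentation g]
    [Surjective g] (t : total X) :
    ∃ (V : (total X).Opens) (r : V.toScheme ⟶ X'), t ∈ V ∧ r ≫ g = V.ι ≫ proj X := by
  obtain ⟨U, P, hP⟩ := (glueData X).cover.exists_eq t
  let A := Γ(X, U.1)
  let B := cl X U.1
  change PrimeSpectrum B at P
  let φ := CommRingCat.ofHom (algebraMap A B)
  have hs : proj X t = U.2.fromSpec (Spec.map φ P) := by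
    rw [← hP]
    exact (Scheme.Hom.comp_apply _ _ _).symm.trans
      ((congr(($(cover_proj X U)) P)).trans (Scheme.Hom.comp_apply _ _ _))
  have hsU : proj X t ∈ U.1 := by
    rw [hs]
    exact U.2.range_fromSpec.subset ⟨_, rfl⟩
  obtain ⟨z, hz⟩ := g.surjective (proj X t)
  obtain ⟨S', h, hA', hF, hFP, hQ, w, hw⟩ := FlatMisc.QfSlice.exists_slice g z
  obtain ⟨W, hW, hwW, hWU⟩ := exists_isAffineOpen_mem_and_subset (x := w)
    (U := (h ≫ g) ⁻¹ᵁ U.1) (show (h ≫ g) w ∈ U.1 by rw [hw, hz]; exact hsU)
  let C := Γ(S', W)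
  let χ := (h ≫ g).appLE U.1 W hWU
  letI := χ.hom.toAlgebra
  haveI : Module.Flat A C := HasRingHomProperty.appLE @Flat _ hF U ⟨W, hW⟩ hWU
  haveI : Algebra.FinitePresentation A C :=
    HasRingHomProperty.appLE @LocallyOfFinitePresentation _ hFP U ⟨W, hW⟩ hWU
  haveI : Algebra.QuasiFinite A C := HasRingHomProperty.appLE @LocallyQuasiFinite _ hQ U ⟨W, hW⟩ hWU
  haveI := isDomain_localization X U.1 P.asIdeal
  haveI : Nontrivial (Localization.AtPrime P.asIdeal) := inferInstance
  obtain ⟨Q, hQw⟩ : w ∈ Set.range hW.fromSpec := by rw [hW.range_fromSpec]; exact hwW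
  have hPQ : Spec.map φ P = Spec.map χ Q := U.2.fromSpec.isOpenEmbedding.injective (by
    rw [← hs, ← Scheme.Hom.comp_apply (Spec.map χ), U.2.SpecMap_appLE_fromSpec (h ≫ g) hW hWU,
      Scheme.Hom.comp_apply, hQw, hw, hz])
  obtain ⟨b, hb, ⟨σ⟩⟩ := exists_section_near A B C P.asIdeal
    (ModPairLocal.isAIC_localization P.asIdeal.primeCompl (isAIC_cl X U.1)) Q.asIdeal
    (congrArg PrimeSpectrum.asIdeal hPQ)
  let j : Spec (CommRingCat.of (Localization.Away b)) ⟶ total X :=
    Spec.map (CommRingCat.ofHom (algebraMap B (Localization.Away b))) ≫ (glueData X).cover.f U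
  haveI : IsOpenImmersion (Spec.map (CommRingCat.ofHom (algebraMap B (Localization.Away b)))) :=
    IsOpenImmersion.of_isLocalization b
  haveI : IsOpenImmersion j := inferInstance
  let ψ : C ⟶ CommRingCat.of (Localization.Away b) := CommRingCat.ofHom σ.toRingHom
  refine ⟨j.opensRange, j.isoOpensRange.inv ≫ Spec.map ψ ≫ hW.fromSpec ≫ h, ?_, ?_⟩
  · obtain ⟨y, hy⟩ : P ∈ Set.range (Spec.map (CommRingCat.ofHom (algebraMap B (Localization.Away b)))) := by
      show P ∈ Set.range (PrimeSpectrum.comap (algebraMap B (Localization.Away b)))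
      rw [PrimeSpectrum.localization_away_comap_range (Localization.Away b) b]
      exact hb
    exact ⟨y, by rw [← hP, ← hy]; rfl⟩
  · have e : Spec.map ψ ≫ hW.fromSpec ≫ h ≫ g = j ≫ proj X := by
      rw [← U.2.SpecMap_appLE_fromSpec (h ≫ g) hW hWU]
      simp only [j, Category.assoc, cover_proj X U]
      rw [← Category.assoc, ← Category.assoc, ← Spec.map_comp, ← Spec.map_comp]
      congr 2
      ext a
      exact σ.commutes a
    rw [Category.assoc, Category.assoc, Category.assoc, e, ← Category.assoc,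
      Scheme.Hom.isoOpensRange_inv_comp]

end Groth.Agent.AICCover
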